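import Cfsg.Agent.Fod.Mat
import Cfsg.Agent.BlockB.GA

/-! The Fourier determinant of a finite group: its square and its Galois behaviour. -/

set_option autoImplicit false
open Cfsg Matrix Finset
open scoped Kronecker

namespace CF.Fod
open CF.Char

variable {G : Type*} [Group G] {I : Type*} [Fintype I] [DecidableEq I] {d : I → ℕ}

/-- Row index type of the Fourier matrix. -/
abbrev Rw (d : I → ℕ) := Σ i : I, Fin (d i) × Fin (d i)

/-- The Fourier matrix. -/
def U (A : ∀ i, G →* Matrix (Fin (d i)) (Fin (d i)) ℂ) (e : Rw d ≃ G) : Matrix (Rw d) (Rw d) ℂ :=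
  Matrix.of fun r s => A r.1 (e s) r.2.1 r.2.2

theorem card_fix (f : Equiv.Perm (Rw d)) :
    Fintype.card (Function.fixedPoints f)
      = ∑ i, ∑ p : Fin (d i) × Fin (d i), if f ⟨i, p⟩ = ⟨i, p⟩ then 1 else 0 := by
  rw [Fintype.card_subtype, Finset.card_filter, Fintype.sum_sigma]
  rfl

omit [DecidableEq I] in
theorem card_Rw : Fintype.card (Rw d) = ∑ i, d i ^ 2 := by
  simp [Fintype.card_sigma, sq]

theorem det_sim [Finite G] (A B : ∀ i, G →* Matrix (Fin (d i)) (Fin (d i)) ℂ) (e : Rw d ≃ G)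
    (h : ∀ i g, (A i g).trace = (B i g).trace) : (U B e).det = (U A e).det := by
  choose T T' hT hB using fun i => simM (A i) (B i) (h i)
  have : U B e = Matrix.blockDiagonal' (fun i => T i ⊗ₖ (T' i)ᵀ) * U A e := by
    ext ⟨i, a, b⟩ s
    rw [Matrix.mul_apply, Fintype.sum_sigma, Finset.sum_eq_single i]
    · simp only [U, Matrix.of_apply, Matrix.blockDiagonal'_apply_eq, hB i, Matrix.mul_apply,
        Fintype.sum_prod_type, Matrix.kroneckerMap_apply, Matrix.transpose_apply, Finset.sum_mul]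
      rw [Finset.sum_comm]
      exact Finset.sum_congr rfl fun _ _ => Finset.sum_congr rfl fun _ _ => by ring
    · intro j _ hj
      exact Finset.sum_eq_zero fun p _ => by
        rw [Matrix.blockDiagonal'_apply_ne _ _ _ hj.symm, zero_mul]
    · simp
  rw [this, Matrix.det_mul, det_bd, Finset.prod_eq_one, one_mul]
  intro i _
  rw [Matrix.det_kronecker, Matrix.det_transpose, ← mul_pow, ← Matrix.det_mul, hT, Matrix.det_one,
    one_pow]

theorem det_sq [Fintype G] (A : ∀ i, G →* Matrix (Fin (d i)) (Fin (d i)) ℂ) (e : Rw d ≃ G)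
    (hA : ∀ i, IsIrrCharacter G fun g => (A i g).trace)
    (hne : ∀ i j, i ≠ j → (fun g => (A i g).trace) ≠ fun g => (A j g).trace) :
    (U A e).det ^ 2 * ∏ i, (d i : ℂ) ^ (d i ^ 2) =
      (-1) ^ ((Nat.card G - Nat.card {x : G // x * x = 1}) / 2) *
        (-1) ^ (∑ i, d i * (d i - 1) / 2) * (Nat.card G : ℂ) ^ Nat.card G := by
  classical
  let S : Equiv.Perm (Rw d) := Equiv.sigmaCongrRight fun i => Equiv.prodComm _ _
  let J : Equiv.Perm (Rw d) := (e.trans (Equiv.inv G)).trans e.symm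
  have hd : ∀ i, (d i : ℂ) ≠ 0 := fun i => by simpa using irr_one_ne_zero (hA i)
  have hc : Fintype.card (Rw d) = Nat.card G := by
    rw [Nat.card_eq_fintype_card]; exact Fintype.card_congr e
  have h1 : U A e * (((U A e).submatrix S id).submatrix id J)ᵀ
      = Matrix.diagonal fun r => (Nat.card G : ℂ) / d r.1 := by
    ext ⟨i, a, b⟩ ⟨j, c, f⟩
    have e1 : (U A e * (((U A e).submatrix S id).submatrix id J)ᵀ) ⟨i, a, b⟩ ⟨j, c, f⟩
        = (∑ g, A i g * Matrix.single b f (1 : ℂ) * A j g⁻¹) a c := by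
      rw [Matrix.mul_apply, Matrix.sum_apply, ← Equiv.sum_comp e]
      refine Finset.sum_congr rfl fun s _ => ?_
      simp [U, S, J, Matrix.mul_apply, Matrix.single_apply, ite_and]
    rw [e1]
    by_cases hij : i = j
    · subst hij
      rw [orth_eq _ (hA i), Matrix.diagonal_apply]
      by_cases hac : a = c
      · subst hac
        by_cases hbf : b = f
        · subst hbf; simp
        · simp [hbf]
      · simp [hac]
    · rw [orth_ne _ _ (hA i) (hA j) (hne i j hij), Matrix.diagonal_apply_ne]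
      · rfl
      · exact fun h => hij (congrArg Sigma.fst h)
  have h2 := congrArg Matrix.det h1
  rw [Matrix.det_mul, Matrix.det_transpose, Matrix.det_permute', Matrix.det_permute,
    Matrix.det_diagonal, Fintype.prod_sigma] at h2
  have sS : ((Equiv.Perm.sign S : ℤ) : ℂ) = (-1) ^ (∑ i, d i * (d i - 1) / 2) := by
    rw [Equiv.Perm.sign_of_pow_two_eq_one (by ext ⟨i, a, b⟩ : 1; rfl), card_fix, card_Rw]
    have : ∀ i, (∑ p : Fin (d i) × Fin (d i), if S ⟨i, p⟩ = ⟨i, p⟩ then 1 else 0) = d i := by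
      intro i
      have : ∀ a b : Fin (d i), S ⟨i, (a, b)⟩ = ⟨i, (a, b)⟩ ↔ a = b := fun a b => by
        simp [S, eq_comm]
      rw [Fintype.sum_prod_type]
      simp only [this, Finset.sum_ite_eq, Finset.mem_univ, if_true]
      simp
    simp only [this]
    have h3 : ∑ i, d i ^ 2 = ∑ i, d i + 2 * ∑ i, d i * (d i - 1) / 2 := by
      rw [Finset.mul_sum, ← Finset.sum_add_distrib]
      refine Finset.sum_congr rfl fun i _ => ?_
      rw [Nat.mul_div_cancel' (Nat.even_mul_pred_self _).two_dvd]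
      cases d i <;> simp; ring
    rw [h3, Nat.add_sub_cancel_left, Nat.mul_div_cancel_left _ two_pos]
    simp
  have sJ : ((Equiv.Perm.sign J : ℤ) : ℂ)
      = (-1) ^ ((Nat.card G - Nat.card {x : G // x * x = 1}) / 2) := by
    rw [Equiv.Perm.sign_of_pow_two_eq_one (by ext r : 1; simp [J, sq]), hc]
    have : Fintype.card (Function.fixedPoints J) = Nat.card {x : G // x * x = 1} := by
      rw [← Nat.card_eq_fintype_card]
      refine Nat.card_congr (e.subtypeEquiv fun r => ?_)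
      simp [J, Function.IsFixedPt, Equiv.symm_apply_eq, inv_eq_iff_mul_eq_one]
    rw [this]
    simp
  rw [sS, sJ] at h2
  have h4 : (∏ i, ∏ _p : Fin (d i) × Fin (d i), (Nat.card G : ℂ) / d i) * ∏ i, (d i : ℂ) ^ (d i ^ 2)
      = (Nat.card G : ℂ) ^ Nat.card G := by
    conv_rhs => rw [← hc, card_Rw, ← Finset.prod_pow_eq_pow_sum]
    rw [← Finset.prod_mul_distrib]
    refine Finset.prod_congr rfl fun i _ => ?_
    rw [Finset.prod_const, Finset.card_univ, Fintype.card_prod, Fintype.card_fin, ← sq, ← mul_pow,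
      div_mul_cancel₀ _ (hd i), ← card_Rw, hc]
  rw [← h4, ← h2]
  set a : ℂ := (-1) ^ ((Nat.card G - Nat.card {x : G // x * x = 1}) / 2)
  set b : ℂ := (-1) ^ (∑ i, d i * (d i - 1) / 2)
  have ha : a * a = 1 := by rw [← mul_pow]; simp
  have hb : b * b = 1 := by rw [← mul_pow]; simp
  linear_combination (-(U A e).det ^ 2 * ∏ i, (d i : ℂ) ^ (d i ^ 2)) * (b * b * ha + hb)

theorem det_gal [Finite G] (A : ∀ i, G →* Matrix (Fin (d i)) (Fin (d i)) ℂ) (e : Rw d ≃ G)
    (s : ℂ →+* ℂ) (π : I → I) (hπ : ∀ i, π (π i) = i) (hd : ∀ i, d i = d (π i))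
    (hs : ∀ i g, s (A (π i) g).trace = (A i g).trace) :
    s (U A e).det = (-1) ^ ((∑ i, if π i = i then 0 else d i ^ 2) / 2) * (U A e).det := by
  classical
  let t : Rw d → Rw d := fun r => ⟨π r.1, Fin.cast (hd r.1) r.2.1, Fin.cast (hd r.1) r.2.2⟩
  have ext : ∀ (i j : I) (a b : Fin (d i)) (c f : Fin (d j)), i = j → (a : ℕ) = c → (b : ℕ) = f →
      (⟨i, a, b⟩ : Rw d) = ⟨j, c, f⟩ := by
    rintro i _ a b c f rfl h1 h2
    rw [Fin.ext h1, Fin.ext h2]
  have ht : Function.Involutive t := fun ⟨i, a, b⟩ => ext _ _ _ _ _ _ (hπ i) rfl rfl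
  let τ : Equiv.Perm (Rw d) := ht.toPerm
  let B : ∀ i, G →* Matrix (Fin (d i)) (Fin (d i)) ℂ := fun i =>
    ((Matrix.reindexAlgEquiv ℂ ℂ (finCongr (hd i)).symm).toMonoidHom.comp
      (s.mapMatrix.toMonoidHom.comp (A (π i))))
  have hB : ∀ i g a b, B i g a b = s (A (π i) g (Fin.cast (hd i) a) (Fin.cast (hd i) b)) :=
    fun i g a b => rfl
  have h1 : U B e = (s.mapMatrix (U A e)).submatrix τ id := by
    ext ⟨i, a, b⟩ r
    rfl
  have h2 := det_sim A B e fun i g => by
    rw [← hs, Matrix.trace, Matrix.trace, map_sum, ← Equiv.sum_comp (finCongr (hd i))]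
    rfl
  rw [h1, Matrix.det_permute, ← RingHom.map_det] at h2
  have sT : ((Equiv.Perm.sign τ : ℤ) : ℂ) = (-1) ^ ((∑ i, if π i = i then 0 else d i ^ 2) / 2) := by
    rw [Equiv.Perm.sign_of_pow_two_eq_one (by ext r : 1; exact ht r), card_fix, card_Rw]
    have : ∀ i, (∑ p : Fin (d i) × Fin (d i), if τ ⟨i, p⟩ = ⟨i, p⟩ then 1 else 0)
        = if π i = i then d i ^ 2 else 0 := by
      intro i
      split_ifs with h
      · have : ∀ p : Fin (d i) × Fin (d i), τ ⟨i, p⟩ = ⟨i, p⟩ := fun ⟨a, b⟩ =>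
          ext _ _ _ _ _ _ h rfl rfl
        simp [this, sq]
      · have : ∀ p : Fin (d i) × Fin (d i), τ ⟨i, p⟩ ≠ ⟨i, p⟩ := fun p hp =>
          h (congrArg Sigma.fst hp)
        simp [this]
    simp only [this]
    have h3 : ∑ i, d i ^ 2 = (∑ i, if π i = i then d i ^ 2 else 0)
        + ∑ i, if π i = i then 0 else d i ^ 2 := by
      rw [← Finset.sum_add_distrib]
      exact Finset.sum_congr rfl fun i _ => by split_ifs <;> simp
    rw [h3, Nat.add_sub_cancel_left]
    simp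
  rw [sT] at h2
  set a : ℂ := (-1) ^ ((∑ i, if π i = i then 0 else d i ^ 2) / 2)
  have ha : a * a = 1 := by rw [← mul_pow]; simp
  linear_combination a * h2 - s (U A e).det * ha

open Classical in
/-- The Fourier determinant: general form. -/
theorem det_core' [Fintype G] (s : ℂ →+* ℂ)
    (hinv : ∀ χ : IrrCharacter G, ∀ g, s (s ((χ : G → ℂ) g)) = (χ : G → ℂ) g) :
    ∃ D : ℂ, s D = (-1) ^ (Nat.card {χ : IrrCharacter G // Odd (charDegree (χ : G → ℂ)) ∧
        (fun g => s ((χ : G → ℂ) g)) ≠ χ} / 2) * D ∧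
      D ^ 2 * ∏ χ : IrrCharacter G, (charDegree (χ : G → ℂ) : ℂ) ^ (charDegree (χ : G → ℂ) ^ 2) =
      (-1) ^ ((Nat.card G - Nat.card {x : G // x * x = 1}) / 2) *
        (-1) ^ (∑ χ : IrrCharacter G, charDegree (χ : G → ℂ) * (charDegree (χ : G → ℂ) - 1) / 2) *
        (Nat.card G : ℂ) ^ Nat.card G := by
  let d : IrrCharacter G → ℕ := fun χ => charDegree (χ : G → ℂ)
  have hd1 : ∀ χ : IrrCharacter G, (χ : G → ℂ) 1 = d χ := fun χ =>
    (BlockB.irr_charDegree_eq χ).symm
  choose A hA using fun χ : IrrCharacter G => exists_mrep (irr_isCharacter χ.2) (hd1 χ)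
  have hc : Fintype.card (Rw d) = Fintype.card G := by
    rw [card_Rw, ← Nat.card_eq_fintype_card]
    have := sum_irr_one_sq (G := G)
    simp only [hd1] at this
    exact_mod_cast this
  let e : Rw d ≃ G := Fintype.equivOfCardEq hc
  let π : IrrCharacter G → IrrCharacter G := fun χ => ⟨fun g => s ((χ : G → ℂ) g), irr_map χ.2 s⟩
  have hπ : ∀ χ, π (π χ) = χ := fun χ => Subtype.ext (funext (hinv χ))
  have hd : ∀ χ, d χ = d (π χ) := fun χ => by
    have := hd1 (π χ)
    change s _ = _ at this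
    rw [hd1, map_natCast] at this
    exact_mod_cast this
  refine ⟨(U A e).det, ?_, det_sq A e (fun χ => by simpa only [hA] using χ.2)
    fun χ ψ h h' => h (Subtype.ext (by simpa only [hA] using h'))⟩
  rw [det_gal A e s π hπ hd fun χ g => by rw [hA, hA]; exact hinv χ g]
  congr 1
  have h1 : Nat.card {χ : IrrCharacter G // Odd (charDegree (χ : G → ℂ)) ∧
      (fun g => s ((χ : G → ℂ) g)) ≠ χ}
      = ∑ χ : IrrCharacter G, if Odd (d χ) ∧ π χ ≠ χ then 1 else 0 := by
    rw [Nat.card_eq_fintype_card, Fintype.card_subtype, Finset.card_filter]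
    refine Finset.sum_congr rfl fun χ _ => if_congr (and_congr_right fun _ => ?_) rfl rfl
    exact not_congr (Subtype.ext_iff (a1 := π χ) (a2 := χ)).symm
  have h2 : (∑ χ, if π χ = χ then 0 else d χ ^ 2) % 4
      = (∑ χ : IrrCharacter G, if Odd (d χ) ∧ π χ ≠ χ then 1 else 0) % 4 := by
    rw [Finset.sum_nat_mod, Finset.sum_nat_mod (f := fun χ => if Odd (d χ) ∧ π χ ≠ χ then 1 else 0)]
    congr 1
    refine Finset.sum_congr rfl fun χ _ => ?_
    by_cases h : π χ = χ
    · simp [h]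
    · rcases Nat.even_or_odd' (d χ) with ⟨k, hk | hk⟩
      · have : ¬ Odd (d χ) := by rw [hk]; simp
        rw [if_neg h, if_neg (fun x => this x.1), hk, show (2 * k) ^ 2 = 4 * k ^ 2 by ring]
        simp
      · have : Odd (d χ) := ⟨k, hk⟩
        rw [if_neg h, if_pos ⟨this, h⟩, hk, show (2 * k + 1) ^ 2 = 4 * (k ^ 2 + k) + 1 by ring]
        simp
  rw [h1]
  generalize (∑ χ, if π χ = χ then 0 else d χ ^ 2) = a at *
  generalize (∑ χ : IrrCharacter G, if Odd (d χ) ∧ π χ ≠ χ then 1 else 0) = b at *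
  rw [neg_one_pow_eq_pow_mod_two, neg_one_pow_eq_pow_mod_two (n := b / 2)]
  congr 1
  omega

/-- The Fourier determinant when the automorphism fixes the characters of odd degree. -/
theorem det_core [Fintype G] (s : ℂ →+* ℂ)
    (hfix : ∀ χ : IrrCharacter G, Odd (charDegree (χ : G → ℂ)) → ∀ g,
      s ((χ : G → ℂ) g) = (χ : G → ℂ) g)
    (hinv : ∀ χ : IrrCharacter G, ∀ g, s (s ((χ : G → ℂ) g)) = (χ : G → ℂ) g) :
    ∃ D : ℂ, s D = D ∧
      D ^ 2 * ∏ χ : IrrCharacter G, (charDegree (χ : G → ℂ) : ℂ) ^ (charDegree (χ : G → ℂ) ^ 2) =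
      (-1) ^ ((Nat.card G - Nat.card {x : G // x * x = 1}) / 2) *
        (-1) ^ (∑ χ : IrrCharacter G, charDegree (χ : G → ℂ) * (charDegree (χ : G → ℂ) - 1) / 2) *
        (Nat.card G : ℂ) ^ Nat.card G := by
  obtain ⟨D, h1, h2⟩ := det_core' s hinv
  refine ⟨D, ?_, h2⟩
  have : IsEmpty {χ : IrrCharacter G // Odd (charDegree (χ : G → ℂ)) ∧
      (fun g => s ((χ : G → ℂ) g)) ≠ χ} := ⟨fun χ => χ.2.2 (funext (hfix _ χ.2.1))⟩
  rw [h1]
  simp

end CF.Fod
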