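import Cfsg.Agent.Char.More
import Cfsg.Agent.Char.Galois

/-! Matrix representations: Schur orthogonality of matrix coefficients, similarity. -/

set_option autoImplicit false
open Cfsg Matrix Finset
open scoped Kronecker

namespace CF.Fod
open CF.Char

variable {G : Type*} [Group G]

/-- The representation on the coordinate space given by a matrix representation. -/
noncomputable def rep {n : ℕ} (A : G →* Matrix (Fin n) (Fin n) ℂ) : Representation ℂ G (Fin n → ℂ) :=
  (Matrix.toLinAlgEquiv' (R := ℂ) (n := Fin n)).toMonoidHom.comp A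

theorem rep_apply {n : ℕ} (A : G →* Matrix (Fin n) (Fin n) ℂ) (g : G) :
    rep A g = Matrix.toLin' (A g) := rfl

theorem rep_char {n : ℕ} (A : G →* Matrix (Fin n) (Fin n) ℂ) :
    (rep A).character = fun g => (A g).trace := by
  funext g
  change LinearMap.trace ℂ _ (Matrix.toLin' (A g)) = _
  rw [Matrix.trace_toLin'_eq]

theorem exists_mrep {χ : G → ℂ} (h : IsCharacter G χ) {n : ℕ} (hn : χ 1 = n) :
    ∃ A : G →* Matrix (Fin n) (Fin n) ℂ, ∀ g, (A g).trace = χ g := by
  obtain ⟨m, ρ, rfl⟩ := h
  have : m = n := by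
    rw [ρ.char_one] at hn
    simpa using hn
  subst this
  refine ⟨(LinearMap.toMatrixAlgEquiv' (R := ℂ) (n := Fin m)).toMonoidHom.comp ρ, fun g => ?_⟩
  change (LinearMap.toMatrix' (ρ g)).trace = LinearMap.trace ℂ _ (ρ g)
  rw [← Matrix.trace_toLin'_eq, Matrix.toLin'_toMatrix']

theorem simM [Finite G] {n : ℕ} (A B : G →* Matrix (Fin n) (Fin n) ℂ)
    (h : ∀ g, (A g).trace = (B g).trace) :
    ∃ T T' : Matrix (Fin n) (Fin n) ℂ, T * T' = 1 ∧ ∀ g, B g = T * A g * T' := by
  obtain ⟨e⟩ := nonempty_equiv_of_character_eq (rep A) (rep B)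
    (by rw [rep_char, rep_char]; exact funext h)
  refine ⟨LinearMap.toMatrix' e.toLinearEquiv.toLinearMap,
    LinearMap.toMatrix' e.toLinearEquiv.symm.toLinearMap, ?_, fun g => ?_⟩
  · rw [← LinearMap.toMatrix'_comp, LinearEquiv.comp_coe, LinearEquiv.symm_trans_self]
    exact LinearMap.toMatrix'_id
  · apply Matrix.toLin'.injective
    rw [Matrix.toLin'_mul, Matrix.toLin'_mul, Matrix.toLin'_toMatrix', Matrix.toLin'_toMatrix']
    refine LinearMap.ext fun v => ?_
    have := e.toIntertwiningMap.isIntertwining (rep A) (rep B) g (e.toLinearEquiv.symm v)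
    simp only [LinearMap.comp_apply, LinearEquiv.coe_coe]
    rw [← rep_apply, ← rep_apply]
    refine Eq.trans ?_ this.symm
    congr 1
    exact (e.toLinearEquiv.apply_symm_apply v).symm

variable [Fintype G]

theorem sumM {n : ℕ} (A : G →* Matrix (Fin n) (Fin n) ℂ)
    (hA : IsIrrCharacter G fun g => (A g).trace) {f : G → ℂ} (hf : IsClassFunction G f) :
    ∑ g, f g • A g = ((∑ g, f g * (A g).trace) / n) • (1 : Matrix (Fin n) (Fin n) ℂ) := by
  have := isIrreducible_of_irr (rep A) (by rw [rep_char]; exact hA)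
  have := sum_classFun_smul_eq (rep A) hf
  rw [rep_char] at this
  apply Matrix.toLin'.injective
  simp only [map_sum, map_smul, Matrix.toLin'_one]
  simpa [rep_apply] using this

theorem orth_ne {n m : ℕ} (A : G →* Matrix (Fin n) (Fin n) ℂ) (B : G →* Matrix (Fin m) (Fin m) ℂ)
    (hA : IsIrrCharacter G fun g => (A g).trace) (hB : IsIrrCharacter G fun g => (B g).trace)
    (hne : (fun g => (A g).trace) ≠ fun g => (B g).trace) (E : Matrix (Fin n) (Fin m) ℂ) :
    ∑ g, A g * E * B g⁻¹ = 0 := by
  set T := ∑ g, A g * E * B g⁻¹ with hT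
  have h1 : ∀ x, A x * T = T * B x := fun x => by
    rw [hT, Matrix.mul_sum, Matrix.sum_mul, ← Equiv.sum_comp (Equiv.mulLeft x)
      (fun g => A g * E * B g⁻¹ * B x)]
    refine Finset.sum_congr rfl fun g _ => ?_
    simp only [Equiv.coe_mulLeft, map_mul, Matrix.mul_assoc]
    rw [← map_mul B]
    simp
  have hf := classFun_star (irr_isClassFunction hA)
  have a := sumM A hA hf
  have b := sumM B hB hf
  have a' : ∑ g, (starRingEnd ℂ) (A g).trace * (A g).trace = Nat.card G := by
    have := card_mul_inner (fun g => (A g).trace) (fun g => (A g).trace)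
    rw [inner_irr_self hA, mul_one] at this
    rw [this]; exact Finset.sum_congr rfl fun g _ => mul_comm _ _
  have b' : ∑ g, (starRingEnd ℂ) (A g).trace * (B g).trace = 0 := by
    have := card_mul_inner (fun g => (B g).trace) (fun g => (A g).trace)
    rw [inner_irr_ne hB hA hne.symm, mul_zero] at this
    rw [this]; exact Finset.sum_congr rfl fun g _ => mul_comm _ _
  rw [a'] at a
  rw [b', zero_div, zero_smul] at b
  have h2 : (∑ g, (starRingEnd ℂ) (A g).trace • A g) * T
      = T * ∑ g, (starRingEnd ℂ) (A g).trace • B g := by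
    rw [Matrix.sum_mul, Matrix.mul_sum]
    exact Finset.sum_congr rfl fun g _ => by rw [Matrix.smul_mul, Matrix.mul_smul, h1]
  rw [a, b, Matrix.mul_zero, Matrix.smul_mul, Matrix.one_mul] at h2
  have hn : (n : ℂ) ≠ 0 := by
    have := irr_one_ne_zero hA
    simpa using this
  exact (smul_eq_zero.1 h2).resolve_left (div_ne_zero card_ne_zero_complex hn)

theorem orth_eq {n : ℕ} (A : G →* Matrix (Fin n) (Fin n) ℂ)
    (hA : IsIrrCharacter G fun g => (A g).trace) (E : Matrix (Fin n) (Fin n) ℂ) :
    ∑ g, A g * E * A g⁻¹ = ((Nat.card G : ℂ) / n * E.trace) • (1 : Matrix (Fin n) (Fin n) ℂ) := by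
  set T := ∑ g, A g * E * A g⁻¹ with hT
  have h1 : ∀ x, A x * T = T * A x := fun x => by
    rw [hT, Matrix.mul_sum, Matrix.sum_mul, ← Equiv.sum_comp (Equiv.mulLeft x)
      (fun g => A g * E * A g⁻¹ * A x)]
    refine Finset.sum_congr rfl fun g _ => ?_
    simp only [Equiv.coe_mulLeft, map_mul, Matrix.mul_assoc]
    rw [← map_mul A (x * g)⁻¹]
    simp
  have := isIrreducible_of_irr (rep A) (by rw [rep_char]; exact hA)
  obtain ⟨c, hc⟩ := schur (rep A) (Matrix.toLin' T) fun g => by
    rw [rep_apply, ← Matrix.toLin'_mul, ← Matrix.toLin'_mul, h1]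
  have h2 : T = c • (1 : Matrix (Fin n) (Fin n) ℂ) := by
    apply Matrix.toLin'.injective
    rw [hc, map_smul, Matrix.toLin'_one]
  have hn : (n : ℂ) ≠ 0 := by
    have := irr_one_ne_zero hA
    simpa using this
  have h3 : T.trace = Nat.card G * E.trace := by
    rw [hT, Matrix.trace_sum]
    have : ∀ g, (A g * E * A g⁻¹).trace = E.trace := fun g => by
      rw [Matrix.trace_mul_cycle, ← map_mul]; simp
    simp [this, Nat.card_eq_fintype_card]
  rw [h2, Matrix.trace_smul, Matrix.trace_one, Fintype.card_fin, smul_eq_mul] at h3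
  rw [h2]
  congr 1
  field_simp
  linear_combination h3

omit [Group G] [Fintype G] in
theorem det_bd {ι : Type*} [Fintype ι] [DecidableEq ι] {m : ι → Type*} [∀ i, Fintype (m i)]
    [∀ i, DecidableEq (m i)] (M : ∀ i, Matrix (m i) (m i) ℂ) :
    (Matrix.blockDiagonal' M).det = ∏ i, (M i).det := by
  classical
  let _ : LinearOrder ι := linearOrderOfSTO WellOrderingRel
  have := (Matrix.blockTriangular_blockDiagonal' M).det_fintype
  convert this using 2 with i
  let e : m i ≃ {a : Σ j, m j // a.1 = i} :=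
    { toFun := fun x => ⟨⟨i, x⟩, rfl⟩
      invFun := fun a => a.2 ▸ a.1.2
      left_inv := fun x => rfl
      right_inv := by rintro ⟨⟨j, x⟩, rfl⟩; rfl }
  rw [← Matrix.det_submatrix_equiv_self e]
  congr 1
  ext x y
  simp [e, Matrix.toSquareBlock_def]

end CF.Fod
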